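import Cfsg.Agent.H374.SpFour

/-!
# The trace of an element of order `q + 1` of `SL_2(q)` (helper46, for S2499)
-/

set_option autoImplicit false
set_option linter.unusedSectionVars false

namespace Cfsg.Agent.H46.Cov

open Matrix Polynomial
open Cfsg.Agent.H374 Cfsg.Agent.H374.Quad Cfsg.Agent.H374.SpLow

variable {F : Type} [Field F]

/-- the companion matrix of `X² - τ X + 1` -/
def cm (τ : F) : Matrix (Fin 2) (Fin 2) F := !![0, -1; 1, τ]

/-- the trace of an element of order `q + 1` -/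
structure Tau [Fintype F] (τ : F) : Prop where
  irr : ∀ x : F, x ^ 2 - τ * x + 1 ≠ 0
  ord : ∀ (k : ℕ) (c : F), cm τ ^ k = c • 1 → Fintype.card F + 1 ∣ 2 * k
  sub : ∀ (F₀ : Subfield F) (r : ℕ), r.Prime → Fintype.card F = Nat.card F₀ ^ r → τ ∉ F₀
  dvd : Quad.f τ ∣ X ^ (Fintype.card F + 1) - C 1

theorem cm_det (τ : F) : (cm τ).det = 1 := by
  rw [cm, Matrix.det_fin_two_of]
  ring

theorem exists_tau [Fintype F] (h5 : 5 ≤ Fintype.card F) : ∃ τ : F, Tau τ := by
  classical
  obtain ⟨p, hpchar⟩ : ∃ p, CharP F p := CharP.exists F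
  have hp : p.Prime := CharP.char_is_prime F p
  have hpf : Fact p.Prime := ⟨hp⟩
  obtain ⟨n, hn1, hF⟩ : ∃ n : ℕ, 1 ≤ n ∧ Fintype.card F = p ^ n := by
    obtain ⟨n, -, hn⟩ := FiniteField.card F p
    exact ⟨n, n.pos, hn⟩
  set q := Fintype.card F with hq
  let K := AlgebraicClosure F
  let i : F →+* K := algebraMap F K
  have hK : CharP K p := charP_of_injective_ringHom i.injective p
  have hMK : ((q + 1 : ℕ) : K) ≠ 0 := by
    rw [Nat.cast_add, Nat.cast_one]
    have : ((q : ℕ) : K) = 0 := by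
      rw [CharP.cast_eq_zero_iff K p, hF]
      exact dvd_pow_self p (by omega)
    rw [this, zero_add]
    exact one_ne_zero
  have : NeZero ((q + 1 : ℕ) : K) := ⟨hMK⟩
  obtain ⟨α, hα⟩ := HasEnoughRootsOfUnity.exists_primitiveRoot K (q + 1)
  have hα0 : α ≠ 0 := hα.ne_zero (by omega)
  have hqq : α ^ q = α⁻¹ := by
    have h5 := hα.pow_eq_one
    rw [pow_succ] at h5
    exact eq_inv_of_mul_eq_one_left h5
  set s := α + α⁻¹ with hs
  have hsq : s ^ q = s := by
    rw [hs, hF, pow_q_add, inv_pow, ← hF, hqq, inv_inv, add_comm]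
  obtain ⟨τ, hτ⟩ := mem_range_of_pow i (x := s) hsq
  have hne : α ≠ α⁻¹ := by
    intro h
    have h1 := hα.dvd_of_pow_eq_one 2 (sq_eq_one_of_eq_inv hα0 h)
    have := Nat.le_of_dvd (by norm_num) h1
    omega
  refine ⟨τ, ?_, ?_, ?_, ?_⟩
  · intro x hx
    have h1 := congrArg i hx
    rw [map_add, map_sub, map_mul, map_pow, map_one, map_zero, hτ] at h1
    have h2 : (i x - α) * (i x - α⁻¹) = 0 := by
      have h3 : α * α⁻¹ = 1 := mul_inv_cancel₀ hα0
      rw [hs] at h1
      linear_combination h1 + h3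
    have h4 : α ^ q = α := by
      have h5 : (i x) ^ q = i x := by rw [← map_pow, FiniteField.pow_card]
      rcases mul_eq_zero.1 h2 with h | h
      · rw [← sub_eq_zero.1 h, h5]
      · have h6 := sub_eq_zero.1 h
        rw [h6, inv_pow] at h5
        exact inv_injective h5
    exact hne (h4.symm.trans hqq)
  · intro k c hk
    have h1 : (cm τ).map i *ᵥ ![1, -α] = α • ![1, -α] := by
      have h3 : α * α⁻¹ = 1 := mul_inv_cancel₀ hα0
      ext j
      fin_cases j
      · simp [cm, Matrix.mulVec, dotProduct, Fin.sum_univ_two]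
        ring
      · simp [cm, Matrix.mulVec, dotProduct, Fin.sum_univ_two, hτ, hs]
        linear_combination -h3
    have h2 := pow_eq_of_eigen i (w := ![1, -α]) (fun h => by
      have := congrFun h 0
      simp at this) h1 hk
    have h3 : c ^ 2 = 1 := by
      have h4 := congrArg Matrix.det hk
      rw [Matrix.det_pow, cm_det, one_pow, Matrix.det_smul, Fintype.card_fin, Matrix.det_one, mul_one] at h4
      exact h4.symm
    apply hα.dvd_of_pow_eq_one
    rw [mul_comm, pow_mul, h2, ← map_pow, h3, map_one]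
  · intro F₀ r hr hcard hmem
    set Q := Nat.card F₀ with hQ
    have hQ2 : 2 ≤ Q := by
      have hfin : Finite F₀ := inferInstance
      exact Finite.one_lt_card
    have hrr := hr.two_le
    -- the Frobenius of `F₀`
    obtain ⟨m, hm⟩ : ∃ m : ℕ, Q = p ^ m := by
      have h1 : Q ∣ p ^ n := by rw [← hF, hq, hcard]; exact dvd_pow_self Q (by omega)
      obtain ⟨m, -, hm⟩ := (Nat.dvd_prime_pow hp).1 h1
      exact ⟨m, hm⟩
    have hτQ : τ ^ Q = τ := by
      have hft : Fintype F₀ := Fintype.ofFinite F₀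
      have h1 := FiniteField.pow_card (⟨τ, hmem⟩ : F₀)
      rw [← Nat.card_eq_fintype_card] at h1
      exact congrArg Subtype.val h1
    have hsQ : s ^ Q = s := by rw [← hτ, ← map_pow, hτQ]
    have h1 : α ^ Q + (α ^ Q)⁻¹ = α + α⁻¹ := by
      have h2 := hsQ
      rw [hs, hm, pow_q_add, inv_pow, ← hm] at h2
      exact h2
    have h3 : α ^ (Q ^ 2) = α := by
      have h4 : α ^ Q = α ∨ α ^ Q = α⁻¹ := add_inv_eq (pow_ne_zero _ hα0) hα0 h1
      rw [pow_two, pow_mul]
      rcases h4 with h | h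
      · rw [h, h]
      · rw [h, inv_pow, h, inv_inv]
    have h5 : α ^ (Q ^ 2 - 1) = 1 := by
      have h6 : α ^ (Q ^ 2 - 1) * α = 1 * α := by
        rw [← pow_succ, Nat.sub_add_cancel (Nat.one_le_pow _ _ (by omega)), h3, one_mul]
      exact mul_right_cancel₀ hα0 h6
    have h6 := hα.dvd_of_pow_eq_one _ h5
    have h7 : 0 < Q ^ 2 - 1 := by
      have : 2 ^ 2 ≤ Q ^ 2 := Nat.pow_le_pow_left hQ2 2
      omega
    have h8 := Nat.le_of_dvd h7 h6
    have h9 : Q ^ 2 ≤ Q ^ r := Nat.pow_le_pow_right (by omega) hrr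
    rw [← hcard] at h9
    omega
  · rw [← Polynomial.map_dvd_map' i, f_map, hτ, hs]
    have h1 := f_dvd (m := q + 1) hα0 hne hα.pow_eq_one (one_pow 2)
    simpa using h1

end Cfsg.Agent.H46.Cov
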