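import Cfsg.Agent.H46.Cov.Lin
import Cfsg.Agent.H46.Cov.Tau

/-!
# The test elements of `Sp_4(q)`, `q` odd (helper46, for S2499)
-/

set_option autoImplicit false
set_option linter.unusedSectionVars false

namespace Cfsg.Agent.H46.Cov

open Module Cfsg Cfsg.Geo Matrix
open Cfsg.Agent.ClassicalGeometry.SympBasic
open Cfsg.Agent.H909.Sp4List Cfsg.Agent.H374 Cfsg.Agent.H374.SpFour
open scoped MatrixGroups Matrix

variable {F : Type} [Field F]

/-- block diagonal on the planes `⟨inl 0, inr 0⟩`, `⟨inl 1, inr 1⟩` -/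
def bl (A B : Matrix (Fin 2) (Fin 2) F) : Matrix I4 I4 F :=
  fromBlocks !![A 0 0, 0; 0, B 0 0] !![A 0 1, 0; 0, B 0 1] !![A 1 0, 0; 0, B 1 0] !![A 1 1, 0; 0, B 1 1]

def p1 (v : I4 → F) : Fin 2 → F := ![v (Sum.inl 0), v (Sum.inr 0)]

def p2 (v : I4 → F) : Fin 2 → F := ![v (Sum.inl 1), v (Sum.inr 1)]

theorem p1_bl (A B : Matrix (Fin 2) (Fin 2) F) (v : I4 → F) : p1 (bl A B *ᵥ v) = A *ᵥ p1 v := by
  ext i
  fin_cases i <;>
    simp [p1, bl, fromBlocks_mulVec, Matrix.mulVec, dotProduct, Fin.sum_univ_two, Fintype.sum_sum_type]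

theorem p2_bl (A B : Matrix (Fin 2) (Fin 2) F) (v : I4 → F) : p2 (bl A B *ᵥ v) = B *ᵥ p2 v := by
  ext i
  fin_cases i <;>
    simp [p2, bl, fromBlocks_mulVec, Matrix.mulVec, dotProduct, Fin.sum_univ_two, Fintype.sum_sum_type]

theorem p_ext {v w : I4 → F} (h1 : p1 v = p1 w) (h2 : p2 v = p2 w) : v = w := by
  have a0 := congrFun h1 0
  have a1 := congrFun h1 1
  have b0 := congrFun h2 0
  have b1 := congrFun h2 1
  simp only [p1, p2, Matrix.cons_val_zero, Matrix.cons_val_one, Matrix.cons_val_fin_one] at a0 a1 b0 b1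
  ext (i | i) <;> fin_cases i <;> assumption

theorem p1_smul (c : F) (v : I4 → F) : p1 (c • v) = c • p1 v := by
  ext i; fin_cases i <;> rfl

theorem p2_smul (c : F) (v : I4 → F) : p2 (c • v) = c • p2 v := by
  ext i; fin_cases i <;> rfl

theorem p1_add (u v : I4 → F) : p1 (u + v) = p1 u + p1 v := by
  ext i; fin_cases i <;> rfl

theorem p2_add (u v : I4 → F) : p2 (u + v) = p2 u + p2 v := by
  ext i; fin_cases i <;> rfl

theorem p1_zero : p1 (0 : I4 → F) = 0 := by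
  ext i; fin_cases i <;> rfl

theorem p2_zero : p2 (0 : I4 → F) = 0 := by
  ext i; fin_cases i <;> rfl

/-- the vector with given components -/
def jn (a b : Fin 2 → F) : I4 → F := Sum.elim ![a 0, b 0] ![a 1, b 1]

theorem p1_jn (a b : Fin 2 → F) : p1 (jn a b) = a := by
  ext i; fin_cases i <;> rfl

theorem p2_jn (a b : Fin 2 → F) : p2 (jn a b) = b := by
  ext i; fin_cases i <;> rfl

def cr (a b : Fin 2 → F) : F := a 1 * b 0 - a 0 * b 1

theorem form_eq (u v : I4 → F) : sympForm 2 F u v = cr (p1 u) (p1 v) + cr (p2 u) (p2 v) := by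
  rw [sympForm_eq_sum, Fin.sum_univ_two]
  rfl

theorem cr_mulVec (A : Matrix (Fin 2) (Fin 2) F) (a b : Fin 2 → F) :
    cr (A *ᵥ a) (A *ᵥ b) = A.det * cr a b := by
  rw [Matrix.det_fin_two]
  simp only [cr, Matrix.mulVec, dotProduct, Fin.sum_univ_two]
  ring

theorem bl_mem {A B : Matrix (Fin 2) (Fin 2) F} (hA : A.det = 1) (hB : B.det = 1) :
    bl A B ∈ symplecticGroup (Fin 2) F := by
  rw [mem_symplecticGroup_iff]
  intro u v
  rw [form_eq, form_eq, p1_bl, p1_bl, p2_bl, p2_bl, cr_mulVec, cr_mulVec, hA, hB, one_mul, one_mul]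

theorem mulVec_ext {A B : Matrix I4 I4 F} (h : ∀ v, A *ᵥ v = B *ᵥ v) : A = B := by
  apply Matrix.toLin'.injective
  exact LinearMap.ext fun v => by rw [Matrix.toLin'_apply, Matrix.toLin'_apply, h]

theorem bl_mul (A B A' B' : Matrix (Fin 2) (Fin 2) F) : bl A B * bl A' B' = bl (A * A') (B * B') := by
  apply mulVec_ext
  intro v
  rw [← Matrix.mulVec_mulVec]
  apply p_ext
  · rw [p1_bl, p1_bl, p1_bl, Matrix.mulVec_mulVec]
  · rw [p2_bl, p2_bl, p2_bl, Matrix.mulVec_mulVec]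

theorem bl_one : bl (1 : Matrix (Fin 2) (Fin 2) F) 1 = 1 := by
  apply mulVec_ext
  intro v
  apply p_ext
  · rw [p1_bl, Matrix.one_mulVec, Matrix.one_mulVec]
  · rw [p2_bl, Matrix.one_mulVec, Matrix.one_mulVec]

theorem bl_pow (A B : Matrix (Fin 2) (Fin 2) F) (k : ℕ) : bl A B ^ k = bl (A ^ k) (B ^ k) := by
  induction k with
  | zero => rw [pow_zero, pow_zero, pow_zero, bl_one]
  | succ k ih => rw [pow_succ, ih, bl_mul, ← pow_succ, ← pow_succ]

theorem trace_bl (A B : Matrix (Fin 2) (Fin 2) F) : (bl A B).trace = A.trace + B.trace := by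
  rw [Matrix.trace, Matrix.trace_fin_two, Matrix.trace_fin_two, Fintype.sum_sum_type, Fin.sum_univ_two,
    Fin.sum_univ_two]
  simp only [bl, Matrix.diag_apply, fromBlocks_apply₁₁, fromBlocks_apply₂₂, Matrix.of_apply, Matrix.cons_val',
    Matrix.cons_val_zero, Matrix.cons_val_one, Matrix.cons_val_fin_one]
  ring

/-- `bl` of scalars -/
theorem bl_smul_iff {A B : Matrix (Fin 2) (Fin 2) F} {c : F} (h : bl A B = c • 1) : A = c • 1 ∧ B = c • 1 := by
  constructor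
  · apply Matrix.toLin'.injective
    refine LinearMap.ext fun a => ?_
    rw [Matrix.toLin'_apply, Matrix.toLin'_apply]
    have h1 := p1_bl A B (jn a 0)
    rw [h, Matrix.smul_mulVec, Matrix.one_mulVec, p1_smul, p1_jn] at h1
    rw [← h1, Matrix.smul_mulVec, Matrix.one_mulVec]
  · apply Matrix.toLin'.injective
    refine LinearMap.ext fun a => ?_
    rw [Matrix.toLin'_apply, Matrix.toLin'_apply]
    have h1 := p2_bl A B (jn 0 a)
    rw [h, Matrix.smul_mulVec, Matrix.one_mulVec, p2_smul, p2_jn] at h1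
    rw [← h1, Matrix.smul_mulVec, Matrix.one_mulVec]

/-! ### the companion matrix -/

theorem cm_sq (τ : F) : cm τ ^ 2 = τ • cm τ - 1 := by
  rw [pow_two, cm]
  ext i j
  fin_cases i <;> fin_cases j <;> simp [Matrix.mul_apply, Fin.sum_univ_two]
  ring

theorem cm_eigen [Fintype F] {τ : F} (h : Tau τ) {a : Fin 2 → F} {x : F} (ha : cm τ *ᵥ a = x • a) : a = 0 := by
  by_contra h0
  have h1 : (cm τ ^ 2) *ᵥ a = x ^ 2 • a := by
    rw [pow_two, ← Matrix.mulVec_mulVec, ha, Matrix.mulVec_smul, ha, smul_smul, pow_two]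
  rw [cm_sq, Matrix.sub_mulVec, Matrix.smul_mulVec, ha, Matrix.one_mulVec] at h1
  have h2 : (x ^ 2 - τ * x + 1) • a = 0 := by
    rw [add_smul, sub_smul, ← h1, mul_smul, one_smul]
    abel
  rcases smul_eq_zero.1 h2 with h3 | h3
  · exact h.irr x h3
  · exact h0 h3

theorem tau_ne_zero [Fintype F] {τ : F} (h : Tau τ) (h5 : 5 ≤ Fintype.card F) : τ ≠ 0 := by
  rintro rfl
  have h1 := h.ord 2 (-1) (by rw [cm_sq, zero_smul, zero_sub, neg_smul, one_smul])
  have := Nat.le_of_dvd (by norm_num) h1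
  omega

theorem cm_sq_eigen [Fintype F] {τ : F} (h : Tau τ) (h5 : 5 ≤ Fintype.card F) {a : Fin 2 → F} {c : F}
    (ha : (cm τ ^ 2) *ᵥ a = c • a) : a = 0 := by
  have hτ := tau_ne_zero h h5
  rw [cm_sq, Matrix.sub_mulVec, Matrix.smul_mulVec, Matrix.one_mulVec] at ha
  apply cm_eigen h (x := τ⁻¹ * (c + 1))
  have h1 : τ • cm τ *ᵥ a = (c + 1) • a := by
    rw [add_smul, one_smul, ← ha]
    abel
  have h2 := congrArg (fun x => τ⁻¹ • x) h1
  simp only [smul_smul, inv_mul_cancel₀ hτ, one_smul] at h2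
  exact h2

theorem cm_cr (τ : F) (a : Fin 2 → F) : cr a (cm τ *ᵥ a) = -(a 1 ^ 2 + τ * (a 0 * a 1) + a 0 ^ 2) := by
  simp [cr, cm, Matrix.mulVec, dotProduct, Fin.sum_univ_two]
  ring

theorem cm_cr_eq_zero [Fintype F] {τ : F} (h : Tau τ) {a : Fin 2 → F} (ha : cr a (cm τ *ᵥ a) = 0) : a = 0 := by
  rw [cm_cr, neg_eq_zero] at ha
  by_cases h0 : a 0 = 0
  · rw [h0] at ha
    have h1 : a 1 = 0 := by
      have : a 1 ^ 2 = 0 := by linear_combination ha
      exact pow_eq_zero_iff (two_ne_zero) |>.1 this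
    ext i
    fin_cases i
    · exact h0
    · exact h1
  · exfalso
    apply h.irr (-(a 1 / a 0))
    field_simp
    linear_combination ha

theorem cm_pow [Fintype F] {τ : F} (h : Tau τ) : cm τ ^ (Fintype.card F + 1) = 1 := by
  have h1 : Polynomial.aeval (cm τ) (Quad.f τ) = 0 := by
    rw [Quad.f, map_add, map_sub, map_mul, map_pow, Polynomial.aeval_X, Polynomial.aeval_C, map_one, cm_sq,
      Algebra.algebraMap_eq_smul_one, Matrix.smul_mul, one_mul]
    abel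
  have h2 := SpChar.pow_of_dvd h1 h.dvd
  rw [h2, one_smul]

/-! ### lines -/

theorem line_bl [Fintype F] {τ : F} (h : Tau τ) (h5 : 5 ≤ Fintype.card F) {B : Matrix (Fin 2) (Fin 2) F} {c : F}
    (hB : B.det = 1) {b₀ : Fin 2 → F} (hb0 : b₀ ≠ 0) (hb : (B ^ 2) *ᵥ b₀ = c • b₀)
    (hl : ∀ b, (B ^ 2) *ᵥ b = c • b → ∃ d : F, b = d • b₀) {z : GL I4 F}
    (hz : (z : Matrix I4 I4 F) = bl (cm τ) B) : Line z c := by
  refine ⟨jn 0 b₀, fun h0 => hb0 ?_, ?_, fun v hv => ?_⟩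
  · rw [← p2_jn 0 b₀, h0, p2_zero]
  · rw [hz, bl_pow]
    apply p_ext
    · rw [p1_bl, p1_smul, p1_jn, Matrix.mulVec_zero, smul_zero]
    · rw [p2_bl, p2_smul, p2_jn, hb]
  · rw [hz, bl_pow] at hv
    have h1 : (cm τ ^ 2) *ᵥ p1 v = c • p1 v := by rw [← p1_bl _ (B ^ 2), hv, p1_smul]
    have h2 : (B ^ 2) *ᵥ p2 v = c • p2 v := by rw [← p2_bl (cm τ ^ 2), hv, p2_smul]
    obtain ⟨d, hd⟩ := hl _ h2
    refine ⟨d, p_ext ?_ ?_⟩
    · rw [p1_smul, p1_jn, smul_zero]
      exact cm_sq_eigen h h5 h1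
    · rw [p2_smul, p2_jn, hd]

/-- the element `C ⊕ J₂` -/
def j2 : Matrix (Fin 2) (Fin 2) F := !![1, 1; 0, 1]

theorem j2_det : (j2 : Matrix (Fin 2) (Fin 2) F).det = 1 := by
  rw [j2, Matrix.det_fin_two_of]
  ring

theorem j2_pow (k : ℕ) : (j2 : Matrix (Fin 2) (Fin 2) F) ^ k = !![1, (k : F); 0, 1] := by
  induction k with
  | zero =>
    rw [pow_zero]
    ext i j
    fin_cases i <;> fin_cases j <;> simp
  | succ k ih =>
    rw [pow_succ, ih, j2]
    ext i j
    fin_cases i <;> fin_cases j <;> simp [Matrix.mul_apply, Fin.sum_univ_two]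
    ring

theorem line_j2 (h2 : (2 : F) ≠ 0) : ((j2 : Matrix (Fin 2) (Fin 2) F) ^ 2) *ᵥ ![1, 0] = (1 : F) • ![1, 0] ∧
    ∀ b : Fin 2 → F, ((j2 : Matrix (Fin 2) (Fin 2) F) ^ 2) *ᵥ b = (1 : F) • b → ∃ d : F, b = d • ![1, 0] := by
  constructor
  · rw [j2_pow]
    ext i
    fin_cases i <;> simp [Matrix.mulVec, dotProduct, Fin.sum_univ_two]
  · intro b hb
    rw [j2_pow] at hb
    have h0 := congrFun hb 0
    simp [Matrix.mulVec, dotProduct, Fin.sum_univ_two] at h0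
    have h1 : b 1 = 0 := h0.resolve_left h2
    refine ⟨b 0, ?_⟩
    ext i
    fin_cases i
    · simp
    · simp [h1]

theorem line_diag {μ : F} (hμ : μ ≠ 0) (h4 : μ ^ 4 ≠ 1) :
    ((!![μ, 0; 0, μ⁻¹] : Matrix (Fin 2) (Fin 2) F) ^ 2) *ᵥ ![1, 0] = (μ ^ 2) • ![1, 0] ∧
    ∀ b : Fin 2 → F, ((!![μ, 0; 0, μ⁻¹] : Matrix (Fin 2) (Fin 2) F) ^ 2) *ᵥ b = (μ ^ 2) • b →
      ∃ d : F, b = d • ![1, 0] := by
  have hsq : (!![μ, 0; 0, μ⁻¹] : Matrix (Fin 2) (Fin 2) F) ^ 2 = !![μ ^ 2, 0; 0, (μ⁻¹) ^ 2] := by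
    rw [pow_two]
    ext i j
    fin_cases i <;> fin_cases j <;> simp [Matrix.mul_apply, Fin.sum_univ_two, pow_two]
  constructor
  · rw [hsq]
    ext i
    fin_cases i <;> simp [Matrix.mulVec, dotProduct, Fin.sum_univ_two]
  · intro b hb
    rw [hsq] at hb
    have h0 := congrFun hb 1
    simp [Matrix.mulVec, dotProduct, Fin.sum_univ_two] at h0
    have h1 : b 1 = 0 := by
      by_contra hb1
      apply h4
      have h3 : (μ ^ 2)⁻¹ = μ ^ 2 := by
        rcases h0 with h0 | h0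
        · exact h0
        · exact absurd h0 hb1
      have h5 : μ ^ 2 * μ ^ 2 = 1 := by
        nth_rewrite 1 [← h3]
        exact inv_mul_cancel₀ (pow_ne_zero 2 hμ)
      rw [← h5]
      ring
    refine ⟨b 0, ?_⟩
    ext i
    fin_cases i
    · simp
    · simp [h1]

theorem line_reg (h2 : (2 : F) ≠ 0) {z : GL I4 F} (hz : (z : Matrix I4 I4 F) = reg F) : Line z 1 := by
  have hsq : reg F ^ 2 = fromBlocks !![1, 2; 0, 1] !![-1, 3; -1, 2] 0 !![1, 0; -2, 1] := by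
    rw [pow_two, reg, fromBlocks_multiply]
    congr 1 <;>
    · ext j k
      fin_cases j <;> fin_cases k <;> simp [Matrix.mul_apply, Fin.sum_univ_two] <;> norm_num
  refine ⟨Sum.elim ![1, 0] ![0, 0], fun h0 => ?_, ?_, fun v hv => ?_⟩
  · have := congrFun h0 (Sum.inl 0)
    simp at this
  · rw [hz, hsq, fromBlocks_mulVec, one_smul]
    ext (i | i) <;> fin_cases i <;> simp [Matrix.mulVec, dotProduct, Fin.sum_univ_two]
  · rw [hz, hsq, fromBlocks_mulVec, one_smul] at hv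
    have e0 := congrFun hv (Sum.inl 0)
    have e1 := congrFun hv (Sum.inl 1)
    have e3 := congrFun hv (Sum.inr 1)
    simp [Matrix.mulVec, dotProduct, Fin.sum_univ_two] at e0 e1 e3
    have r0 : v (Sum.inr 0) = 0 := e3.resolve_left h2
    rw [r0] at e0 e1
    have r1 : v (Sum.inr 1) = 0 := by
      have : 2 * v (Sum.inr 1) = 0 := by linear_combination e1
      exact (mul_eq_zero.1 this).resolve_left h2
    rw [r1] at e0
    have l1 : v (Sum.inl 1) = 0 := by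
      have : 2 * v (Sum.inl 1) = 0 := by linear_combination e0
      exact (mul_eq_zero.1 this).resolve_left h2
    refine ⟨v (Sum.inl 0), ?_⟩
    ext (i | i) <;> fin_cases i
    · simp
    · simp [l1]
    · simp [r0]
    · simp [r1]

end Cfsg.Agent.H46.Cov
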