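import Cfsg.Agent.H46.Cov.Elt
import Cfsg.Agent.H896.Der4.Odd
import Cfsg.Agent.H278.Cov.Defs

/-!
# The test elements against the geometric subgroups of `Sp_4(q)` (helper46, for S2499)
-/

set_option autoImplicit false
set_option linter.unusedSectionVars false

namespace Cfsg.Agent.H46.Cov

open Module Cfsg Cfsg.Geo Matrix
open Cfsg.Agent.ClassicalGeometry.SympBasic Cfsg.Agent.H876
open Cfsg.Agent.H909.Sp4List Cfsg.Agent.H374 Cfsg.Agent.H374.SpFour
open scoped MatrixGroups Matrix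

variable {F : Type} [Field F]

theorem cr_zero {a b : Fin 2 → F} (ha : a ≠ 0) (h : cr a b = 0) : ∃ d : F, b = d • a := by
  rw [cr, sub_eq_zero] at h
  by_cases h0 : a 0 = 0
  · have h1 : a 1 ≠ 0 := by
      intro h1
      apply ha
      ext i
      fin_cases i
      · exact h0
      · exact h1
    rw [h0, zero_mul] at h
    have hb : b 0 = 0 := (mul_eq_zero.1 h).resolve_left h1
    refine ⟨b 1 / a 1, ?_⟩
    ext i
    fin_cases i
    · simp [h0, hb]
    · simp [h1]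
  · refine ⟨b 0 / a 0, ?_⟩
    ext i
    fin_cases i
    · simp [h0]
    · simp only [Fin.mk_one, Pi.smul_apply, smul_eq_mul]
      field_simp
      linear_combination -h

/-- a totally singular subspace invariant under `C ⊕ J₂` lies in the second plane -/
theorem T1_p1 [Fintype F] {τ : F} (h : Tau τ) {W : Submodule F (I4 → F)}
    (hW : IsTotallySingularFor (sympForm 2 F) W) (hinv : ∀ v ∈ W, bl (cm τ) j2 *ᵥ v ∈ W) {v : I4 → F}
    (hv : v ∈ W) : p1 v = 0 := by
  set B := bl (cm τ) (j2 : Matrix (Fin 2) (Fin 2) F) with hB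
  set w := B *ᵥ (B *ᵥ v) - (2 : F) • (B *ᵥ v) + v with hw
  have hwW : w ∈ W := W.add_mem (W.sub_mem (hinv _ (hinv _ hv)) (W.smul_mem _ (hinv _ hv))) hv
  have e1 : p1 w = (τ - 2) • (cm τ *ᵥ p1 v) := by
    have h1 : p1 w = cm τ *ᵥ (cm τ *ᵥ p1 v) - (2 : F) • (cm τ *ᵥ p1 v) + p1 v := by
      rw [hw, p1_add, sub_eq_add_neg, p1_add, ← neg_smul, p1_smul, hB, p1_bl, p1_bl, neg_smul, ← sub_eq_add_neg]
    rw [h1, Matrix.mulVec_mulVec, ← pow_two, cm_sq, Matrix.sub_mulVec, Matrix.smul_mulVec, Matrix.one_mulVec,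
      sub_smul]
    abel
  have e2 : p2 w = 0 := by
    have h1 : p2 w = j2 *ᵥ (j2 *ᵥ p2 v) - (2 : F) • (j2 *ᵥ p2 v) + p2 v := by
      rw [hw, p2_add, sub_eq_add_neg, p2_add, ← neg_smul, p2_smul, hB, p2_bl, p2_bl, neg_smul, ← sub_eq_add_neg]
    have h2 : (j2 * j2 - (2 : F) • j2 + 1 : Matrix (Fin 2) (Fin 2) F) = 0 := by
      rw [← pow_two, j2_pow, j2]
      ext i j
      fin_cases i <;> fin_cases j <;> simp <;> norm_num
    have h3 := congrArg (fun M => M *ᵥ p2 v) h2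
    simp only [Matrix.add_mulVec, Matrix.sub_mulVec, Matrix.smul_mulVec, Matrix.one_mulVec,
      Matrix.zero_mulVec] at h3
    rw [h1, Matrix.mulVec_mulVec]
    exact h3
  have h3 := hW w hwW _ (hinv w hwW)
  rw [form_eq, e2, hB, p1_bl, p2_bl, e2, Matrix.mulVec_zero] at h3
  have h4 : cr (p1 w) (cm τ *ᵥ p1 w) = 0 := by
    have : cr (0 : Fin 2 → F) 0 = 0 := by simp [cr]
    rw [this, add_zero] at h3
    exact h3
  have h5 := cm_cr_eq_zero h h4
  rw [e1] at h5
  have hτ2 : τ - 2 ≠ 0 := by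
    intro h0
    apply h.irr 1
    linear_combination -h0
  have h6 := (smul_eq_zero.1 h5).resolve_left hτ2
  exact cm_eigen h (x := 0) (by rw [h6, zero_smul])

/-- ... and is at most a line -/
theorem T1_dep [Fintype F] {τ : F} (h : Tau τ) {W : Submodule F (I4 → F)}
    (hW : IsTotallySingularFor (sympForm 2 F) W) (hinv : ∀ v ∈ W, bl (cm τ) j2 *ᵥ v ∈ W) {u v : I4 → F}
    (hu : u ∈ W) (hu0 : u ≠ 0) (hv : v ∈ W) : ∃ d : F, v = d • u := by
  have h1 := T1_p1 h hW hinv hu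
  have h2 := T1_p1 h hW hinv hv
  have h3 := hW u hu v hv
  rw [form_eq, h1, h2] at h3
  have h4 : cr (0 : Fin 2 → F) 0 = 0 := by simp [cr]
  rw [h4, zero_add] at h3
  have h5 : p2 u ≠ 0 := fun h0 => hu0 (p_ext (by rw [h1, p1_zero]) (by rw [h0, p2_zero]))
  obtain ⟨d, hd⟩ := cr_zero h5 h3
  refine ⟨d, p_ext ?_ ?_⟩
  · rw [p1_smul, h1, h2, smul_zero]
  · rw [p2_smul, hd]

/-! ### the element `g` -/

/-- `λ` times a unipotent element, in `GU_2(q)` -/
def gm (τ : F) : Matrix I4 I4 F := fromBlocks (cm τ) !![0, 0; 1, 0] 0 !![τ, -1; 1, 0]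

theorem gm_mem (τ : F) : gm τ ∈ symplecticGroup (Fin 2) F := by
  rw [gm, SymplecticGroup.fromBlocks_mem_iff]
  refine ⟨?_, ?_, ?_⟩
  · simp
  · ext j k; fin_cases j <;> fin_cases k <;> simp [Matrix.mul_apply, Fin.sum_univ_two]
  · ext j k; fin_cases j <;> fin_cases k <;> simp [cm, Matrix.mul_apply, Fin.sum_univ_two]

theorem gm_poly (τ : F) : gm τ ^ 2 - τ • gm τ + 1 = fromBlocks 0 !![-1, 0; τ, -1] 0 0 := by
  rw [pow_two, gm, fromBlocks_multiply, fromBlocks_smul, ← fromBlocks_one, sub_eq_add_neg, fromBlocks_neg,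
    fromBlocks_add, fromBlocks_add]
  congr 1
  · rw [Matrix.mul_zero, add_zero, ← pow_two, cm_sq]
    abel
  · ext j k
    fin_cases j <;> fin_cases k <;> simp [cm, Matrix.mul_apply, Fin.sum_univ_two]
  · simp
  · ext j k
    fin_cases j <;> fin_cases k <;> simp [Matrix.mul_apply, Fin.sum_univ_two]

theorem gm_poly_sq (τ : F) : (gm τ ^ 2 - τ • gm τ + 1) ^ 2 = 0 := by
  rw [gm_poly, pow_two, fromBlocks_multiply]
  simp

theorem gm_poly_ne (τ : F) : gm τ ^ 2 - τ • gm τ + 1 ≠ 0 := by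
  intro h
  rw [gm_poly] at h
  have := congrFun (congrFun h (Sum.inl 0)) (Sum.inr 0)
  simp at this

theorem gm_pow_block (τ : F) (k : ℕ) : ∃ B D, gm τ ^ k = fromBlocks (cm τ ^ k) B 0 D := by
  induction k with
  | zero => exact ⟨0, 1, by rw [pow_zero, pow_zero, fromBlocks_one]⟩
  | succ k ih =>
    obtain ⟨B, D, h⟩ := ih
    rw [pow_succ, h, gm, fromBlocks_multiply, Matrix.mul_zero, add_zero, Matrix.zero_mul, Matrix.mul_zero,
      add_zero, ← pow_succ]
    exact ⟨_, _, rfl⟩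

theorem gm_scalar {τ c : F} {k : ℕ} (h : gm τ ^ k = c • 1) : cm τ ^ k = c • 1 := by
  obtain ⟨B, D, h1⟩ := gm_pow_block τ k
  rw [h, ← fromBlocks_one, fromBlocks_smul] at h1
  exact (fromBlocks_inj.1 h1).1.symm

theorem gm_pow_ne [Fintype F] {τ : F} (h : Tau τ) (c : F) : gm τ ^ (Fintype.card F + 1) ≠ c • 1 := by
  intro hc
  have h1 := gm_scalar hc
  rw [cm_pow h] at h1
  have hc1 : c = 1 := by
    have := congrFun (congrFun h1 0) 0
    simpa using this.symm
  rw [hc1, one_smul] at hc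
  set q := Fintype.card F with hq
  set G := gm τ with hG
  set N := G ^ 2 - τ • G + 1 with hN
  have hNa : Polynomial.aeval G (Quad.f τ) = N := by
    rw [Quad.f, map_add, map_sub, map_mul, map_pow, Polynomial.aeval_X, Polynomial.aeval_C, map_one,
      Algebra.algebraMap_eq_smul_one, Matrix.smul_mul, one_mul]
  have hNq : N ^ q = (G ^ q) ^ 2 - τ • G ^ q + 1 := by
    rw [← hNa, ← map_pow, ← FiniteField.expand_card, Polynomial.expand_aeval, Quad.f, map_add, map_sub, map_mul,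
      map_pow, Polynomial.aeval_X, Polynomial.aeval_C, map_one, Algebra.algebraMap_eq_smul_one, Matrix.smul_mul,
      one_mul]
  have hq2 : 2 ≤ q := Fintype.one_lt_card
  have hN0 : N ^ q = 0 := pow_eq_zero_of_le hq2 (gm_poly_sq τ)
  have hGG : G ^ q * G = 1 := by rw [← pow_succ, hc]
  have hGG' : G * G ^ q = 1 := by rw [← pow_succ', hc]
  have h2 : G ^ 2 * ((G ^ q) ^ 2 - τ • G ^ q + 1) = N := by
    have e1 : G ^ 2 * (G ^ q) ^ 2 = 1 := by
      rw [← (show Commute G (G ^ q) from (Commute.refl G).pow_right q).mul_pow, hGG', one_pow]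
    have e2 : G ^ 2 * G ^ q = G := by rw [pow_two, mul_assoc, hGG', mul_one]
    rw [mul_add, mul_sub, e1, Matrix.mul_smul, e2, mul_one, hN]
    abel
  rw [← hNq, hN0, mul_zero] at h2
  exact gm_poly_ne τ h2.symm

theorem gm_pow_mul [Fintype F] {τ : F} (h : Tau τ) {p : ℕ} [Fact p.Prime] [CharP F p] :
    gm τ ^ ((Fintype.card F + 1) * p) = 1 := by
  have hp : 2 ≤ p := (Fact.out : p.Prime).two_le
  have h1 : Polynomial.aeval (gm τ) (Quad.f τ ^ 2) = 0 := by
    have := gm_poly_sq τ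
    rw [map_pow, Quad.f, map_add, map_sub, map_mul, map_pow, Polynomial.aeval_X, Polynomial.aeval_C, map_one,
      Algebra.algebraMap_eq_smul_one, Matrix.smul_mul, one_mul]
    exact this
  have h2 : Quad.f τ ^ 2 ∣ (Polynomial.X ^ (Fintype.card F + 1) - Polynomial.C 1) ^ p :=
    (pow_dvd_pow_of_dvd h.dvd 2).trans (pow_dvd_pow _ hp)
  rw [Quad.sub_pow_p, one_pow] at h2
  have h3 := SpChar.pow_of_dvd h1 h2
  rw [h3, one_smul]

/-- `g` does not lie in `Sp_2(q²).2` -/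
theorem gm_not_norm [Fintype F] (hodd : Odd (Fintype.card F)) (h5 : 5 ≤ Fintype.card F) {τ : F} (h : Tau τ)
    {K : Subalgebra F (Matrix I4 I4 F)} (hK : IsFieldSubalgebra 2 K)
    (hsa : IsSelfAdjointFor (sympForm 2 F) K) {z a : GL I4 F} (hz : z ∈ spGL 2 F)
    (hza : (z : Matrix I4 I4 F) = (a : Matrix I4 I4 F) * gm τ * ((a⁻¹ : GL I4 F) : Matrix I4 I4 F)) :
    z ∉ subalgebraNormalizer K := by
  intro hzK
  obtain ⟨p, hpchar⟩ : ∃ p, CharP F p := CharP.exists F
  have hp : p.Prime := CharP.char_is_prime F p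
  have hpf : Fact p.Prime := ⟨hp⟩
  obtain ⟨n, hn1, hF⟩ : ∃ n : ℕ, 1 ≤ n ∧ Fintype.card F = p ^ n := by
    obtain ⟨n, -, hn⟩ := FiniteField.card F p
    exact ⟨n, n.pos, hn⟩
  have hp2 : p ≠ 2 := by
    rintro rfl
    rw [hF] at hodd
    exact (Nat.not_even_iff_odd.2 hodd) (Even.pow_of_ne_zero even_two (by omega))
  have hai : ((a⁻¹ : GL I4 F) : Matrix I4 I4 F) * (a : Matrix I4 I4 F) = 1 := by
    rw [← Units.val_mul, inv_mul_cancel, Units.val_one]
  have hai' : (a : Matrix I4 I4 F) * ((a⁻¹ : GL I4 F) : Matrix I4 I4 F) = 1 := by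
    rw [← Units.val_mul, mul_inv_cancel, Units.val_one]
  have hpow : ∀ k : ℕ, (z : Matrix I4 I4 F) ^ k =
      (a : Matrix I4 I4 F) * gm τ ^ k * ((a⁻¹ : GL I4 F) : Matrix I4 I4 F) := by
    intro k
    induction k with
    | zero => rw [pow_zero, pow_zero, mul_one, hai']
    | succ k ih =>
      rw [pow_succ, ih, hza, pow_succ]
      simp only [Matrix.mul_assoc]
      rw [← Matrix.mul_assoc _ (a : Matrix I4 I4 F), hai, Matrix.one_mul]
  have hback : ∀ (k : ℕ) (c : F), (z : Matrix I4 I4 F) ^ k = c • 1 → gm τ ^ k = c • 1 := by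
    intro k c hk
    rw [hpow] at hk
    have h1 := congrArg (fun x => ((a⁻¹ : GL I4 F) : Matrix I4 I4 F) * x * (a : Matrix I4 I4 F)) hk
    simp only [Matrix.mul_smul, Matrix.smul_mul, mul_one, hai] at h1
    rw [mul_assoc, mul_assoc, hai, mul_one, ← mul_assoc, hai, one_mul] at h1
    exact h1
  obtain ⟨k, hk⟩ := hodd
  have h2k : Fintype.card F + 1 = 2 * (k + 1) := by omega
  rcases Cfsg.Agent.H896.Der4.ext_scalar' (p := p) (k := k + 1) hp2 hK hsa hz hzK (ε := 1) (one_pow 2) (by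
    rw [hpow, ← h2k, gm_pow_mul h, mul_one, hai', one_smul]) with ⟨c, hc⟩ | ⟨c, hc⟩
  · have h1 := hback _ c hc
    rw [← h2k] at h1
    exact gm_pow_ne h c h1
  · have h1 := h.ord _ c (gm_scalar (hback _ c hc))
    have h2 : Nat.Coprime (Fintype.card F + 1) p := by
      rw [Nat.coprime_comm, Nat.Prime.coprime_iff_not_dvd hp]
      intro h3
      have h4 : p ∣ Fintype.card F := by rw [hF]; exact dvd_pow_self p (by omega)
      have h6 := (Nat.dvd_add_right h4).1 h3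
      exact hp.one_lt.ne' (Nat.dvd_one.1 h6)
    have h3 : Fintype.card F + 1 ∣ 4 := by
      apply h2.dvd_of_dvd_mul_right
      rw [show 4 * p = 2 * (2 * p) by ring]
      exact h1
    have := Nat.le_of_dvd (by norm_num) h3
    omega

end Cfsg.Agent.H46.Cov
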