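import Cfsg.Agent.H901.SaxSpFour
import Cfsg.Agent.H914.Sub

/-!
# `PSp_4(q)`, `q` odd: linear algebra for the normal 2-coverings (helper46, for S2499)
-/

set_option autoImplicit false
set_option linter.unusedSectionVars false

namespace Cfsg.Agent.H46.Cov

open Module Cfsg Cfsg.Geo Matrix
open Cfsg.Agent.ClassicalGeometry.SympBasic
open Cfsg.Agent.H909.Sp4List
open scoped MatrixGroups Matrix

variable {F : Type} [Field F]

/-- the eigenspace of `z²` for `c` is a line -/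
def Line (z : GL I4 F) (c : F) : Prop :=
  ∃ u : I4 → F, u ≠ 0 ∧ ((z : Matrix I4 I4 F) ^ 2) *ᵥ u = c • u ∧
    ∀ v : I4 → F, ((z : Matrix I4 I4 F) ^ 2) *ᵥ v = c • v → ∃ d : F, v = d • u

theorem conj_sq (a z : GL I4 F) : ((a * z * a⁻¹ : GL I4 F) : Matrix I4 I4 F) ^ 2 =
    (a : Matrix I4 I4 F) * (z : Matrix I4 I4 F) ^ 2 * ((a⁻¹ : GL I4 F) : Matrix I4 I4 F) := by
  rw [← Units.val_pow_eq_pow_val, ← Units.val_pow_eq_pow_val, ← Units.val_mul, ← Units.val_mul, conj_pow]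

theorem Line.conj {z : GL I4 F} {c : F} (h : Line z c) (a : GL I4 F) : Line (a * z * a⁻¹) c := by
  obtain ⟨u, hu0, hu, hl⟩ := h
  have hai : ((a⁻¹ : GL I4 F) : Matrix I4 I4 F) * (a : Matrix I4 I4 F) = 1 := by
    rw [← Units.val_mul, inv_mul_cancel, Units.val_one]
  have hai' : (a : Matrix I4 I4 F) * ((a⁻¹ : GL I4 F) : Matrix I4 I4 F) = 1 := by
    rw [← Units.val_mul, mul_inv_cancel, Units.val_one]
  refine ⟨(a : Matrix I4 I4 F) *ᵥ u, fun h0 => hu0 ?_, ?_, fun v hv => ?_⟩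
  · have h1 := congrArg (fun x => ((a⁻¹ : GL I4 F) : Matrix I4 I4 F) *ᵥ x) h0
    simp only [Matrix.mulVec_mulVec, Matrix.mulVec_zero, hai, Matrix.one_mulVec] at h1
    exact h1
  · rw [conj_sq, Matrix.mulVec_mulVec, mul_assoc, mul_assoc, hai, mul_one, ← Matrix.mulVec_mulVec, hu,
      Matrix.mulVec_smul]
  · rw [conj_sq] at hv
    have h1 : ((z : Matrix I4 I4 F) ^ 2) *ᵥ (((a⁻¹ : GL I4 F) : Matrix I4 I4 F) *ᵥ v) =
        c • (((a⁻¹ : GL I4 F) : Matrix I4 I4 F) *ᵥ v) := by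
      have h2 := congrArg (fun x => ((a⁻¹ : GL I4 F) : Matrix I4 I4 F) *ᵥ x) hv
      simp only [Matrix.mulVec_mulVec, Matrix.mulVec_smul, ← mul_assoc, hai, one_mul] at h2
      rw [Matrix.mulVec_mulVec]
      exact h2
    obtain ⟨d, hd⟩ := hl _ h1
    refine ⟨d, ?_⟩
    rw [← Matrix.mulVec_smul, ← hd, Matrix.mulVec_mulVec, hai', Matrix.one_mulVec]

/-- an element with a line of `z²` does not normalise a quadratic field -/
theorem Line.not_norm [Fintype F] {z : GL I4 F} {c : F} (h : Line z c) {K : Subalgebra F (Matrix I4 I4 F)}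
    (hK : IsFieldSubalgebra 2 K) : z ∉ subalgebraNormalizer K := by
  intro hz
  obtain ⟨u, hu0, hu, hl⟩ := h
  have hcomm := Cfsg.Agent.H901.SaxSp.sq_comm hK hz
  have hsc : ∀ k ∈ K, ∃ d : F, k = d • (1 : Matrix I4 I4 F) := by
    intro k hk
    obtain ⟨d, hd⟩ := hl (k *ᵥ u) (by
      rw [Matrix.mulVec_mulVec, hcomm k hk, ← Matrix.mulVec_mulVec, hu, Matrix.mulVec_smul])
    refine ⟨d, ?_⟩
    have h1 : k - d • (1 : Matrix I4 I4 F) ∈ K := K.sub_mem hk (K.smul_mem K.one_mem d)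
    have h2 := Cfsg.Agent.H901.SaxSp.mulVec_eq_zero_of_field hK h1 hu0 (by
      rw [Matrix.sub_mulVec, hd, Matrix.smul_mulVec, Matrix.one_mulVec, sub_self])
    exact sub_eq_zero.1 h2
  have h3 : finrank F K ≤ 1 := by
    apply finrank_le_one (⟨1, K.one_mem⟩ : K)
    rintro ⟨k, hk⟩
    obtain ⟨d, hd⟩ := hsc k hk
    exact ⟨d, Subtype.ext hd.symm⟩
  rw [hK.finrank_eq] at h3
  omega

/-- a unipotent element with a line does not permute two planes -/
theorem Line.not_decomp {z : GL I4 F} (h : Line z 1)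
    (hn : ((z : Matrix I4 I4 F) ^ 2 - 1) ^ 4 = 0) {D : Fin 2 → Submodule F (I4 → F)}
    (hD : IsMDecomposition 2 D) : z ∉ decompositionStabilizer D := by
  rintro ⟨σ, hσ⟩
  obtain ⟨u, hu0, hu, hl⟩ := h
  have hσ2 : ∀ i, σ (σ i) = i := by
    intro i
    have h1 : σ ^ 2 = 1 := by
      have h2 := pow_card_eq_one' (x := σ)
      rw [Nat.card_eq_fintype_card, Fintype.card_perm, Fintype.card_fin] at h2
      exact h2
    have := Equiv.Perm.ext_iff.1 h1 i
    rw [pow_two] at this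
    exact this
  have hmap : ∀ i, ∀ v ∈ D i, ((z : Matrix I4 I4 F) ^ 2 - 1) *ᵥ v ∈ D i := by
    intro i v hv
    have h1 : (z : Matrix I4 I4 F) *ᵥ v ∈ D (σ i) := by
      rw [← hσ]
      exact ⟨v, hv, by rw [Matrix.toLin'_apply]⟩
    have h2 : (z : Matrix I4 I4 F) *ᵥ ((z : Matrix I4 I4 F) *ᵥ v) ∈ D (σ (σ i)) := by
      rw [← hσ (σ i)]
      exact ⟨_, h1, by rw [Matrix.toLin'_apply]⟩
    rw [hσ2, Matrix.mulVec_mulVec, ← pow_two] at h2
    rw [Matrix.sub_mulVec, Matrix.one_mulVec]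
    exact (D i).sub_mem h2 hv
  have hmem : ∀ i, u ∈ D i := by
    intro i
    have hne : D i ≠ ⊥ := by
      intro h0
      have h1 := hD.finrank_eq i
      rw [h0, finrank_bot] at h1
      omega
    obtain ⟨v, hv, hv0⟩ := Submodule.exists_mem_ne_zero_of_ne_bot hne
    set N := (z : Matrix I4 I4 F) ^ 2 - 1 with hN
    have hpow : ∀ j : ℕ, (N ^ j) *ᵥ v ∈ D i := by
      intro j
      induction j with
      | zero => rw [pow_zero, Matrix.one_mulVec]; exact hv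
      | succ j ih =>
        rw [pow_succ', ← Matrix.mulVec_mulVec]
        exact hmap i _ ih
    have hex : ∃ j : ℕ, (N ^ j) *ᵥ v = 0 := ⟨4, by rw [hn, Matrix.zero_mulVec]⟩
    classical
    set j := Nat.find hex with hj
    have hj0 : (N ^ j) *ᵥ v = 0 := Nat.find_spec hex
    have hj1 : 1 ≤ j := by
      by_contra hcon
      have : j = 0 := by omega
      rw [this, pow_zero, Matrix.one_mulVec] at hj0
      exact hv0 hj0
    set w := (N ^ (j - 1)) *ᵥ v with hw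
    have hw0 : w ≠ 0 := Nat.find_min hex (by omega)
    have hNw : N *ᵥ w = 0 := by
      rw [hw, Matrix.mulVec_mulVec, ← pow_succ', Nat.sub_add_cancel hj1, hj0]
    obtain ⟨d, hd⟩ := hl w (by
      rw [hN, Matrix.sub_mulVec, Matrix.one_mulVec, sub_eq_zero] at hNw
      rw [hNw, one_smul])
    have hd0 : d ≠ 0 := by
      rintro rfl
      rw [zero_smul] at hd
      exact hw0 hd
    have h3 : u = d⁻¹ • w := by rw [hd, smul_smul, inv_mul_cancel₀ hd0, one_smul]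
    rw [h3]
    exact (D i).smul_mem _ (hpow _)
  have hdis := hD.indep.pairwiseDisjoint (show (0 : Fin 2) ≠ 1 by decide)
  exact hu0 (Submodule.disjoint_def.1 hdis u (hmem 0) (hmem 1))

/-- the traces of a subfield group element -/
theorem not_subfield {z : GL I4 F} {τ : F} (h2 : (2 : F) ≠ 0) (hτ : τ ≠ 0) (hτ2 : τ + 2 ≠ 0)
    (h1 : Matrix.trace (z : Matrix I4 I4 F) = τ + 2)
    (hi : Matrix.trace ((z⁻¹ : GL I4 F) : Matrix I4 I4 F) = τ + 2)
    (hs : Matrix.trace ((z : Matrix I4 I4 F) ^ 2) = τ ^ 2) {F₀ : Subfield F} (hF₀ : τ ∉ F₀) {P : GL I4 F} :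
    z ∉ subfieldSubgroup F₀ P := by
  intro hz
  obtain ⟨c, hc0, hc⟩ := Cfsg.Agent.H914.mem_subfieldSubgroup_iff.1 hz
  set y : GL I4 F := P⁻¹ * z * P with hy
  set Y : Matrix I4 I4 F := c • (y : Matrix I4 I4 F) with hY
  have htr : ∀ x : GL I4 F, Matrix.trace ((P⁻¹ * x * P : GL I4 F) : Matrix I4 I4 F) =
      Matrix.trace (x : Matrix I4 I4 F) := by
    intro x
    rw [Units.val_mul, Units.val_mul, Matrix.trace_mul_cycle, ← Units.val_mul, mul_inv_cancel, Units.val_one,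
      one_mul]
  have e1 : Matrix.trace Y = c * (τ + 2) := by
    rw [hY, Matrix.trace_smul, hy, htr, h1, smul_eq_mul]
  have e2 : Matrix.trace (Y * Y) = c ^ 2 * τ ^ 2 := by
    rw [hY, Matrix.smul_mul, Matrix.mul_smul, smul_smul, Matrix.trace_smul, ← Units.val_mul, hy,
      show P⁻¹ * z * P * (P⁻¹ * z * P) = P⁻¹ * (z ^ 2) * P by simp [pow_two, mul_assoc], htr,
      Units.val_pow_eq_pow_val, hs, smul_eq_mul, pow_two c]
  have hmemY : ∀ i j, Y i j ∈ F₀ := by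
    intro i j
    rw [hY, Matrix.smul_apply, smul_eq_mul]
    exact hc i j
  have m1 : c * (τ + 2) ∈ F₀ := by
    rw [← e1, Matrix.trace]
    exact F₀.sum_mem fun i _ => hmemY i i
  have m2 : c ^ 2 * τ ^ 2 ∈ F₀ := by
    rw [← e2, Matrix.trace]
    refine F₀.sum_mem fun i _ => ?_
    rw [Matrix.diag_apply, Matrix.mul_apply]
    exact F₀.sum_mem fun j _ => F₀.mul_mem (hmemY i j) (hmemY j i)
  -- the inverse
  set Z : Matrix I4 I4 F := c⁻¹ • ((y⁻¹ : GL I4 F) : Matrix I4 I4 F) with hZ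
  have hYZ : Y * Z = 1 := by
    rw [hY, hZ, Matrix.smul_mul, Matrix.mul_smul, smul_smul, mul_inv_cancel₀ hc0, one_smul, ← Units.val_mul,
      mul_inv_cancel, Units.val_one]
  have hmemZ : ∀ i j, Z i j ∈ F₀ := by
    have hZe : Z = Y⁻¹ := by
      rw [Matrix.inv_eq_right_inv hYZ]
    obtain ⟨Y₀, hY₀⟩ : ∃ Y₀ : Matrix I4 I4 F₀, Y₀.map (F₀.subtype : F₀ →+* F) = Y :=
      ⟨Matrix.of fun i j => ⟨Y i j, hmemY i j⟩, by ext i j; rfl⟩
    have hdet : IsUnit Y₀.det := by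
      have h3 : (F₀.subtype : F₀ →+* F) Y₀.det = Y.det := by
        rw [RingHom.map_det, RingHom.mapMatrix_apply, hY₀]
      rw [isUnit_iff_ne_zero]
      intro h0
      rw [h0, map_zero] at h3
      have h4 := congrArg Matrix.det hYZ
      rw [Matrix.det_mul, ← h3, zero_mul, Matrix.det_one] at h4
      exact zero_ne_one h4
    have h5 : Y₀⁻¹.map (F₀.subtype : F₀ →+* F) = Z := by
      rw [hZe]
      symm
      apply Matrix.inv_eq_right_inv
      rw [← hY₀, ← Matrix.map_mul, Matrix.mul_nonsing_inv _ hdet]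
      exact Matrix.map_one _ (map_zero _) (map_one _)
    intro i j
    rw [← h5, Matrix.map_apply]
    exact (Y₀⁻¹ i j).2
  have e3 : Matrix.trace Z = c⁻¹ * (τ + 2) := by
    rw [hZ, Matrix.trace_smul, hy, show (P⁻¹ * z * P)⁻¹ = P⁻¹ * z⁻¹ * P by group, htr, hi, smul_eq_mul]
  have m3 : c⁻¹ * (τ + 2) ∈ F₀ := by
    rw [← e3, Matrix.trace]
    exact F₀.sum_mem fun i _ => hmemZ i i
  have m4 : (τ + 2) ^ 2 ∈ F₀ := by
    have h6 := F₀.mul_mem m1 m3
    have h7 : c * (τ + 2) * (c⁻¹ * (τ + 2)) = (τ + 2) ^ 2 := by field_simp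
    rwa [h7] at h6
  have m5 : τ ^ 2 ∈ F₀ := by
    have h6 := F₀.mul_mem m2 (F₀.mul_mem (F₀.inv_mem (F₀.mul_mem m1 m1)) m4)
    have h7 : c ^ 2 * τ ^ 2 * ((c * (τ + 2) * (c * (τ + 2)))⁻¹ * (τ + 2) ^ 2) = τ ^ 2 := by field_simp
    rwa [h7] at h6
  have mtwo : (2 : F) ∈ F₀ := by
    have : (2 : F) = 1 + 1 := by norm_num
    rw [this]
    exact F₀.add_mem F₀.one_mem F₀.one_mem
  apply hF₀
  have h8 := F₀.mul_mem (F₀.inv_mem (F₀.mul_mem mtwo mtwo))
    (F₀.sub_mem (F₀.sub_mem m4 m5) (F₀.mul_mem mtwo mtwo))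
  have h9 : ((2 : F) * 2)⁻¹ * ((τ + 2) ^ 2 - τ ^ 2 - 2 * 2) = τ := by
    field_simp
    ring
  rwa [h9] at h8

/-- elements of order `p`, `p² ∤ |G|`, generate conjugate subgroups -/
theorem exists_conj_of_order {G : Type*} [Group G] [Finite G] {p : ℕ} (hp : p.Prime) (hd : ¬ p ^ 2 ∣ Nat.card G)
    {t b : G} (ht : orderOf t = p) (hb : orderOf b = p) : ∃ (g : G) (k : ℕ), b = g * t ^ k * g⁻¹ := by
  classical
  have hpf : Fact p.Prime := ⟨hp⟩
  have hpd : p ∣ Nat.card G := by rw [← ht]; exact orderOf_dvd_natCard _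
  have hfac : (Nat.card G).factorization p = 1 := by
    have h0 : Nat.card G ≠ 0 := Nat.card_pos.ne'
    have h1 : 1 ≤ (Nat.card G).factorization p := (hp.dvd_iff_one_le_factorization h0).1 hpd
    have h2 : ¬ 2 ≤ (Nat.card G).factorization p := fun h => hd ((hp.pow_dvd_iff_le_factorization h0).2 h)
    omega
  have hcard : ∀ x : G, orderOf x = p → Nat.card (Subgroup.zpowers x) = p ^ (Nat.card G).factorization p := by
    intro x hx
    rw [hfac, pow_one, Nat.card_zpowers, hx]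
  let T : Sylow p G := Sylow.ofCard (Subgroup.zpowers t) (hcard t ht)
  let B : Sylow p G := Sylow.ofCard (Subgroup.zpowers b) (hcard b hb)
  obtain ⟨g, hg⟩ := MulAction.exists_smul_eq G T B
  have h1 : b ∈ (B : Subgroup G) := Subgroup.mem_zpowers b
  rw [← hg, Sylow.coe_subgroup_smul] at h1
  obtain ⟨y, hy, hyb⟩ := Subgroup.mem_map.1 (show b ∈ Subgroup.map _ (T : Subgroup G) from h1)
  have h2 : y ∈ Subgroup.zpowers t := hy
  rw [← mem_powers_iff_mem_zpowers] at h2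
  obtain ⟨k, hk⟩ := h2
  refine ⟨g, k, ?_⟩
  rw [← hyb, ← hk]
  rfl

/-- two unipotent elements of order `p` of different shapes -/
theorem sylow_kill {G₀ : Subgroup (GL I4 F)} [Finite G₀] {p : ℕ} (hp : p.Prime) (hd : ¬ p ^ 2 ∣ Nat.card G₀)
    {t b : GL I4 F} (ht : t ∈ G₀) (hb : b ∈ G₀) (hto : orderOf t = p) (hbo : orderOf b = p)
    {u v : I4 → F} (hu : (t : Matrix I4 I4 F) *ᵥ u = u) (hv : (t : Matrix I4 I4 F) *ᵥ v = v)
    (huv : LinearIndependent F ![u, v]) (hl : Line b 1) : False := by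
  obtain ⟨g, k, hg⟩ := exists_conj_of_order (G := G₀) hp hd (t := ⟨t, ht⟩) (b := ⟨b, hb⟩)
    (by rw [Subgroup.orderOf_mk, hto]) (by rw [Subgroup.orderOf_mk, hbo])
  have hg' : b = g * t ^ k * (g : GL I4 F)⁻¹ := congrArg Subtype.val hg
  obtain ⟨w, -, -, hw⟩ := hl
  have hfix : ∀ x : I4 → F, (t : Matrix I4 I4 F) *ᵥ x = x →
      ((b : Matrix I4 I4 F) ^ 2) *ᵥ (((g : GL I4 F) : Matrix I4 I4 F) *ᵥ x) =
        (1 : F) • (((g : GL I4 F) : Matrix I4 I4 F) *ᵥ x) := by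
    intro x hx
    have hxk : ∀ j : ℕ, ((t : Matrix I4 I4 F) ^ j) *ᵥ x = x := by
      intro j
      induction j with
      | zero => rw [pow_zero, Matrix.one_mulVec]
      | succ j ih => rw [pow_succ, ← Matrix.mulVec_mulVec, hx, ih]
    have hb1 : (b : Matrix I4 I4 F) *ᵥ (((g : GL I4 F) : Matrix I4 I4 F) *ᵥ x) =
        ((g : GL I4 F) : Matrix I4 I4 F) *ᵥ x := by
      rw [Matrix.mulVec_mulVec, hg', ← Units.val_mul, show (g : GL I4 F) * t ^ k * (g : GL I4 F)⁻¹ * g =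
        g * t ^ k by group, Units.val_mul, Units.val_pow_eq_pow_val, ← Matrix.mulVec_mulVec, hxk]
    rw [pow_two, ← Matrix.mulVec_mulVec, hb1, hb1, one_smul]
  obtain ⟨c, hc⟩ := hw _ (hfix u hu)
  obtain ⟨d, hd'⟩ := hw _ (hfix v hv)
  have hgi : ((((g : GL I4 F)⁻¹ : GL I4 F)) : Matrix I4 I4 F) * ((g : GL I4 F) : Matrix I4 I4 F) = 1 := by
    rw [← Units.val_mul, inv_mul_cancel, Units.val_one]
  set w' := (((g : GL I4 F)⁻¹ : GL I4 F) : Matrix I4 I4 F) *ᵥ w with hw'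
  have hu' : u = c • w' := by
    have h1 := congrArg (fun x => (((g : GL I4 F)⁻¹ : GL I4 F) : Matrix I4 I4 F) *ᵥ x) hc
    simp only [Matrix.mulVec_mulVec, hgi, Matrix.one_mulVec, Matrix.mulVec_smul] at h1
    exact h1
  have hv' : v = d • w' := by
    have h1 := congrArg (fun x => (((g : GL I4 F)⁻¹ : GL I4 F) : Matrix I4 I4 F) *ᵥ x) hd'
    simp only [Matrix.mulVec_mulVec, hgi, Matrix.one_mulVec, Matrix.mulVec_smul] at h1
    exact h1
  rw [LinearIndependent.pair_iff] at huv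
  have h2 := huv d (-c) (by
    rw [hu', hv', smul_smul, smul_smul, ← add_smul]
    rw [show d * c + -c * d = 0 by ring, zero_smul])
  obtain ⟨h3, h4⟩ := h2
  have h5 := huv 1 0 (by rw [hu', neg_eq_zero.1 h4]; simp)
  exact one_ne_zero h5.1

end Cfsg.Agent.H46.Cov
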