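import Cfsg.Agent.H46.Cov.Geo
import Cfsg.Agent.H480.PslTwoOut
import Cfsg.Agent.H412.PslCase

/-!
# The element `C ⊕ diag(μ, μ⁻¹)` against `PSL_2(q)` (helper46, for S2499)
-/

set_option autoImplicit false
set_option linter.unusedSectionVars false

namespace Cfsg.Agent.H46.Cov

open Module Cfsg Cfsg.Geo Matrix
open Cfsg.Agent.ClassicalGeometry.AutPSL.Root Cfsg.Agent.ClassicalGeometry.AutPSL.Auto
  Cfsg.Agent.ClassicalGeometry.AutPSL.Main
open Cfsg.Agent.H480.PslTwo
open Cfsg.Agent.H909.Sp4List Cfsg.Agent.H374 Cfsg.Agent.H374.SpFour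
open scoped MatrixGroups Matrix

variable {F : Type} [Field F]

/-- the automorphism induced on the socle -/
theorem core_aut [Finite F] {H P : Subgroup (GL I4 F)} (hc : IsResidualCore H P) {S : Type*} [Group S]
    (e : (P ⧸ (scalars I4 F).subgroupOf P) ≃* S) {z : GL I4 F} (hz : z ∈ H) :
    ∃ τ : MulAut S, ∀ k : ℕ, τ ^ k = 1 → z ^ k ∈ scalars I4 F := by
  classical
  have hsn : (scalars I4 F).Normal := Cfsg.Agent.H753.ResCard.scalars_normal
  set Z : Subgroup H := (scalars I4 F).subgroupOf H with hZ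
  have hZn : Z.Normal := inferInstance
  have hPn : (P.subgroupOf H).Normal := ⟨fun x hx g => hc.normal g g.2 x hx⟩
  set T : Subgroup (H ⧸ Z) := (P.subgroupOf H).map (QuotientGroup.mk' Z) with hT
  have hTn : T.Normal := hPn.map _ (QuotientGroup.mk'_surjective Z)
  have hcent : Subgroup.centralizer (T : Set (H ⧸ Z)) = ⊥ := by
    rw [eq_bot_iff]
    intro g hg
    obtain ⟨h, rfl⟩ := QuotientGroup.mk_surjective g
    rw [Subgroup.mem_bot]
    apply (QuotientGroup.eq_one_iff _).2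
    refine hc.centralizer_scalar h h.2 ?_
    intro x hx
    obtain ⟨x', hx'⟩ : ∃ x' : H, (x' : GL I4 F) = x := ⟨⟨x, hc.le hx⟩, rfl⟩
    have h1 := Subgroup.mem_centralizer_iff.1 hg (QuotientGroup.mk' Z x')
      ⟨x', by rw [SetLike.mem_coe, Subgroup.mem_subgroupOf, hx']; exact hx, rfl⟩
    have h2 : QuotientGroup.mk' Z (h * x' * h⁻¹ * x'⁻¹) = 1 := by
      rw [map_mul, map_mul, map_mul, map_inv, map_inv]
      change (h : H ⧸ Z) * _ * (h : H ⧸ Z)⁻¹ * _ = 1
      rw [← h1]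
      group
    rw [QuotientGroup.mk'_apply, QuotientGroup.eq_one_iff, hZ, Subgroup.mem_subgroupOf] at h2
    rw [← hx']
    simpa only [Subgroup.coe_mul, Subgroup.coe_inv] using h2
  obtain ⟨f, hfx⟩ : ∃ f : P →* T, ∀ x : P, (f x : H ⧸ Z) = QuotientGroup.mk' Z ⟨x, hc.le x.2⟩ :=
    ⟨{ toFun := fun x => ⟨QuotientGroup.mk' Z ⟨x, hc.le x.2⟩, ⟨⟨x, hc.le x.2⟩, x.2, rfl⟩⟩
       map_one' := Subtype.ext rfl
       map_mul' := fun x y => Subtype.ext rfl }, fun x => rfl⟩
  have hf : Function.Surjective f := by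
    rintro ⟨_, ⟨x, hx, rfl⟩⟩
    exact ⟨⟨x, hx⟩, Subtype.ext (hfx _)⟩
  have hker : f.ker = (scalars I4 F).subgroupOf P := by
    ext x
    rw [MonoidHom.mem_ker, Subgroup.mem_subgroupOf, ← Subtype.coe_inj, hfx, QuotientGroup.mk'_apply,
      Subgroup.coe_one, QuotientGroup.eq_one_iff, hZ, Subgroup.mem_subgroupOf]
  have e' : T ≃* P ⧸ (scalars I4 F).subgroupOf P :=
    (QuotientGroup.quotientKerEquivOfSurjective f hf).symm.trans (QuotientGroup.quotientMulEquivOfEq hker)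
  have hinj := Cfsg.Agent.H753.conjNormal_injective T hcent
  have e2 : MulAut T ≃* MulAut S := MulAut.congr (e'.trans e)
  refine ⟨e2 (MulAut.conjNormal (QuotientGroup.mk (⟨z, hz⟩ : H) : H ⧸ Z)), fun k hk => ?_⟩
  rw [← map_pow, ← map_pow] at hk
  have h3 : (QuotientGroup.mk (⟨z, hz⟩ : H) : H ⧸ Z) ^ k = 1 := by
    apply hinj
    apply e2.injective
    rw [hk, map_one, map_one]
  have h4 : ((⟨z, hz⟩ : H) ^ k) ∈ Z := by
    rw [← QuotientGroup.eq_one_iff]
    exact h3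
  exact h4

/-- powers of semilinear automorphisms -/
theorem aut_pow (A : GL (Fin 2) F) (σ : F ≃+* F) (k : ℕ) :
    ∃ B : GL (Fin 2) F, (lift (cj A * fld σ) : MulAut (Matrix.ProjectiveSpecialLinearGroup (Fin 2) F)) ^ k =
      lift (cj B * fld (σ ^ k)) := by
  induction k with
  | zero => exact ⟨1, by simp⟩
  | succ k ih =>
    obtain ⟨B, hB⟩ := ih
    rw [pow_succ, hB, cj_fld_mul, ← pow_succ]
    exact ⟨_, rfl⟩

/-- the orders of the automorphisms of `PSL_2(q)` -/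
theorem aut_order [Fintype F] (h2 : (2 : F) ≠ 0) {p n : ℕ} [Fact p.Prime] [CharP F p] (hn : 1 ≤ n)
    (hF : Fintype.card F = p ^ n) (α : MulAut (Matrix.ProjectiveSpecialLinearGroup (Fin 2) F)) :
    ∃ m : ℕ, (m = (Fintype.card F - 1) / 2 ∨ m = (Fintype.card F + 1) / 2 ∨ m = p) ∧
      α ^ (2 * n * m) = 1 := by
  obtain ⟨A, σ, rfl⟩ := surj_two p α
  have hσ : σ ^ n = 1 := by
    have hcard := Cfsg.Agent.Lib.FieldAutCard.card_ringAut hn hF
    rw [← hcard]
    exact pow_card_eq_one'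
  obtain ⟨B, hB⟩ := aut_pow A σ n
  rw [hσ, map_one, mul_one] at hB
  obtain ⟨C, hC⟩ := inner_of_sq (B * B) (by
    rw [Units.val_mul, Matrix.det_mul]
    exact ⟨_, rfl⟩)
  have h1 : (lift (cj A * fld σ) : MulAut (Matrix.ProjectiveSpecialLinearGroup (Fin 2) F)) ^ (2 * n) =
      MulAut.conj (pr C) := by
    rw [mul_comm, pow_mul, hB, pow_two, ← map_mul, ← map_mul, hC]
  have key : ∀ m : ℕ, orderOf (pr C) ∣ m →
      (lift (cj A * fld σ) : MulAut (Matrix.ProjectiveSpecialLinearGroup (Fin 2) F)) ^ (2 * n * m) = 1 := by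
    intro m hm
    rw [pow_mul, h1, ← map_pow, orderOf_dvd_iff_pow_eq_one.1 hm, map_one]
  rcases Cfsg.Agent.H412.PslCase.orders_odd h2 p (pr C) with h | h | h
  · exact ⟨_, Or.inl rfl, key _ h⟩
  · exact ⟨_, Or.inr (Or.inl rfl), key _ h⟩
  · exact ⟨_, Or.inr (Or.inr rfl), key _ h⟩

theorem five_pow (n : ℕ) (hn : 1 ≤ n) : 4 * n + 1 ≤ 5 ^ n := by
  induction n with
  | zero => omega
  | succ n ih =>
    rcases Nat.eq_zero_or_pos n with h | h
    · subst h; norm_num
    · have := ih h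
      rw [pow_succ]
      omega

theorem five_pow' (n : ℕ) (hn : 2 ≤ n) : 4 * n + 2 ≤ 5 ^ n := by
  induction n with
  | zero => omega
  | succ n ih =>
    rcases Nat.lt_or_ge n 2 with h | h
    · have : n = 1 := by omega
      subst this; norm_num
    · have := ih h
      rw [pow_succ]
      omega

/-- the arithmetic -/
theorem arith {p n q m : ℕ} (hp : p.Prime) (h5 : 5 ≤ p) (hn : 1 ≤ n) (hq : q = p ^ n) (h7 : 7 < q)
    (hm : m = (q - 1) / 2 ∨ m = (q + 1) / 2 ∨ m = p) (h1 : q + 1 ∣ 2 * (2 * n * m)) (h2 : q - 1 ∣ 2 * (2 * n * m)) :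
    False := by
  have hodd : Odd q := by
    rw [hq]
    exact (hp.odd_of_ne_two (by omega)).pow
  obtain ⟨k, hk⟩ := hodd
  have h5n : 5 ^ n ≤ q := by rw [hq]; exact Nat.pow_le_pow_left h5 n
  have hb := five_pow n hn
  have hb1 : 4 * n < q + 1 := by omega
  have hb2 : 4 * n < q - 1 := by
    rcases Nat.lt_or_ge n 2 with h | h
    · have : n = 1 := by omega
      omega
    · have := five_pow' n h
      omega
  rcases hm with h | h | h
  · have hm' : m = k := by omega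
    have e : 2 * (2 * n * m) + 4 * n = (q + 1) * (2 * n) := by
      rw [hm', hk]; ring
    have h3 : q + 1 ∣ 4 * n := (Nat.dvd_add_right h1).1 (by rw [e]; exact dvd_mul_right _ _)
    have := Nat.le_of_dvd (by omega) h3
    omega
  · have hm' : m = k + 1 := by omega
    have e : 2 * (2 * n * m) = (q - 1) * (2 * n) + 4 * n := by
      rw [hm', hk, Nat.add_sub_cancel]; ring
    rw [e] at h2
    have h3 : q - 1 ∣ 4 * n := (Nat.dvd_add_right (dvd_mul_right _ _)).1 h2
    have := Nat.le_of_dvd (by omega) h3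
    omega
  · have h3 : Nat.Coprime (q + 1) p := by
      rw [Nat.coprime_comm, Nat.Prime.coprime_iff_not_dvd hp]
      intro h4
      have h6 : p ∣ q := by rw [hq]; exact dvd_pow_self p (by omega)
      have h8 := (Nat.dvd_add_right h6).1 h4
      exact hp.one_lt.ne' (Nat.dvd_one.1 h8)
    have h4 : q + 1 ∣ 4 * n := by
      apply h3.dvd_of_dvd_mul_right
      rw [h] at h1
      rw [show 4 * n * p = 2 * (2 * n * p) by ring]
      exact h1
    have := Nat.le_of_dvd (by omega) h4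
    omega

theorem diag_pow {μ : F} (k : ℕ) :
    (!![μ, 0; 0, μ⁻¹] : Matrix (Fin 2) (Fin 2) F) ^ k = !![μ ^ k, 0; 0, (μ⁻¹) ^ k] := by
  induction k with
  | zero =>
    rw [pow_zero]
    ext i j
    fin_cases i <;> fin_cases j <;> simp
  | succ k ih =>
    rw [pow_succ, ih]
    ext i j
    fin_cases i <;> fin_cases j <;> simp [Matrix.mul_apply, Fin.sum_univ_two, pow_succ]

/-- **the residual groups with socle `PSL_2(q)`** -/
theorem l2_kill [Fintype F] (h2 : (2 : F) ≠ 0) {p n : ℕ} [hpf : Fact p.Prime] [CharP F p] (hn : 1 ≤ n)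
    (hF : Fintype.card F = p ^ n) (h5 : 5 ≤ p) (h7 : 7 < Fintype.card F) {τ : F} (h : Tau τ) {μ : F}
    (hμ : ∀ k : ℕ, μ ^ k = 1 → Fintype.card F - 1 ∣ k) (hμ0 : μ ≠ 0) {H P : Subgroup (GL I4 F)}
    (hc : IsResidualCore H P)
    (e : (P ⧸ (scalars I4 F).subgroupOf P) ≃* Matrix.ProjectiveSpecialLinearGroup (Fin 2) F) {z a : GL I4 F}
    (hz : z ∈ H)
    (hza : (z : Matrix I4 I4 F) =
      (a : Matrix I4 I4 F) * bl (cm τ) !![μ, 0; 0, μ⁻¹] * ((a⁻¹ : GL I4 F) : Matrix I4 I4 F)) : False := by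
  obtain ⟨α, hα⟩ := core_aut hc e hz
  obtain ⟨m, hm, hαm⟩ := aut_order h2 hn hF α
  have h3 := hα _ hαm
  obtain ⟨c, hc'⟩ := (mem_scalars_iff _).1 h3
  rw [Units.val_pow_eq_pow_val] at hc'
  set k := 2 * n * m with hk
  have hai : ((a⁻¹ : GL I4 F) : Matrix I4 I4 F) * (a : Matrix I4 I4 F) = 1 := by
    rw [← Units.val_mul, inv_mul_cancel, Units.val_one]
  have hai' : (a : Matrix I4 I4 F) * ((a⁻¹ : GL I4 F) : Matrix I4 I4 F) = 1 := by
    rw [← Units.val_mul, mul_inv_cancel, Units.val_one]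
  set B := bl (cm τ) !![μ, 0; 0, μ⁻¹] with hB
  have hpow : ∀ k : ℕ, (z : Matrix I4 I4 F) ^ k =
      (a : Matrix I4 I4 F) * B ^ k * ((a⁻¹ : GL I4 F) : Matrix I4 I4 F) := by
    intro k
    induction k with
    | zero => rw [pow_zero, pow_zero, mul_one, hai']
    | succ k ih =>
      rw [pow_succ, ih, hza, pow_succ]
      simp only [Matrix.mul_assoc]
      rw [← Matrix.mul_assoc _ (a : Matrix I4 I4 F), hai, Matrix.one_mul]
  have hBk : B ^ k = (c : F) • 1 := by
    rw [hpow] at hc'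
    have h1 := congrArg (fun x => ((a⁻¹ : GL I4 F) : Matrix I4 I4 F) * x * (a : Matrix I4 I4 F)) hc'
    simp only [Matrix.mul_smul, Matrix.smul_mul, mul_one, hai] at h1
    rw [mul_assoc, mul_assoc, hai, mul_one, ← mul_assoc, hai, one_mul] at h1
    exact h1
  rw [hB, bl_pow] at hBk
  obtain ⟨e1, e2⟩ := bl_smul_iff hBk
  have d1 := h.ord k _ e1
  have d2 : Fintype.card F - 1 ∣ 2 * k := by
    apply hμ
    rw [diag_pow] at e2
    have f1 := congrFun (congrFun e2 0) 0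
    have f2 := congrFun (congrFun e2 1) 1
    simp at f1 f2
    rw [mul_comm, pow_mul, pow_two]
    nth_rewrite 1 [f1]
    rw [← f2]
    exact inv_mul_cancel₀ (pow_ne_zero k hμ0)
  exact arith hpf.out h5 hn hF h7 hm d1 d2

end Cfsg.Agent.H46.Cov
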